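import Cfsg.Agent.DT.Loc
import Cfsg.Agent.H22.PSolvable
import Cfsg.Agent.H42.ZStar
import Cfsg.Agent.S0205

set_option autoImplicit false

namespace Cfsg.Agent.DTO

open Cfsg Cfsg.Agent.DT

variable {G : Type*} [Group G] [Finite G] {p q : ℕ} {x : G}

/-- an element commuting with all conjugates of `x` is central -/
theorem ev_central (C : Ctx p q x) {g : G} (h : ∀ y, IsConj x y → Commute g y) (a : G) :
    Commute g a := by
  have h1 : Subgroup.closure {y : G | IsConj x y} ≤ cen g :=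
    (Subgroup.closure_le _).2 fun y hy => mem_cen.2 (h y hy).symm
  rw [C.gen] at h1
  exact (mem_cen.1 (h1 (Subgroup.mem_top a))).symm

/-- a normal subgroup centralised by `x` is central -/
theorem ev_central' (C : Ctx p q x) {N : Subgroup G} (hN : N.Normal)
    (h : ∀ n ∈ N, Commute n x) {n : G} (hn : n ∈ N) (a : G) : Commute n a := by
  refine ev_central C (fun y hy => ?_) a
  obtain ⟨g, rfl⟩ := isConj_iff.1 hy
  have h1 := (h _ (hN.conj_mem n hn g⁻¹)).eq
  rw [inv_inv] at h1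
  calc n * (g * x * g⁻¹) = g * (g⁻¹ * n * g * x) * g⁻¹ := by group
    _ = g * x * g⁻¹ * n := by rw [h1]; group

theorem ev_inv_not_central (C : Ctx p q x) {s : G} (hs : orderOf s = 2) :
    ¬ ∀ a, Commute s a := fun h => by
  have h1 : s ≠ 1 := by rintro rfl; simp at hs
  refine C.cen_ne_top h1 ?_ (eq_top_iff.2 fun a _ => mem_cen.2 (h a).symm)
  rw [hs]
  exact (Nat.coprime_primes Nat.prime_two C.pp).2 C.p2.symm

theorem ev (C : Ctx p q x) : ∃ s : G, orderOf s = 2 := by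
  have : Fact (Nat.Prime 2) := ⟨Nat.prime_two⟩
  have : Fact p.Prime := ⟨C.pp⟩
  have : Fact q.Prime := ⟨C.qp⟩
  by_contra hc
  have hodd : Odd (Nat.card G) := Nat.not_even_iff_odd.1 fun h =>
    hc (exists_prime_orderOf_dvd_card' 2 (even_iff_two_dvd.1 h))
  have := S0205.result hodd
  have hO : pPrimeCore p G = ⊥ := C.opp _ inferInstance H22.coprime_card_pPrimeCore
  have hP : IsPGroup p (pCore p G) := H22.isPGroup_pCore
  have hcx : ∀ n ∈ pCore p G, Commute n x := fun n hn => by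
    obtain ⟨R, hR, -, hm⟩ := C.h1 (n * x * n⁻¹) (isConj_iff.2 ⟨n, rfl⟩)
    have hm' : x⁻¹ * (n * x * n⁻¹) ∈ pCore p G := by
      have := mul_mem ((inferInstance : (pCore p G).Normal).conj_mem n hn x⁻¹) (inv_mem hn)
      rwa [inv_inv, mul_assoc, mul_assoc, ← mul_assoc n] at this
    have h0 := (IsPGroup.disjoint_of_ne p q C.pq _ _ hP hR).le_bot ⟨hm', hm⟩
    rw [Subgroup.mem_bot, inv_mul_eq_one, eq_mul_inv_iff_mul_eq] at h0
    exact h0.symm
  have hx : x ∈ pCore p G := H22.IsPSolvable.centralizer_pCore_le H22.isPSolvable_of_isSolvable hO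
    (Subgroup.mem_centralizer_iff.2 fun n hn => (hcx n hn).eq)
  refine C.bad ?_
  rw [cm_eq_bot_iff.2 fun a _ => (ev_central' C inferInstance hcx hx a).symm]
  exact IsPGroup.of_bot

theorem not_iso (C : Ctx p q x) {s : G} : ¬ IsIsolatedInvolution s := fun hs => by
  have : Fact q.Prime := ⟨C.qp⟩
  obtain ⟨N, hN, hodd, hc⟩ := H42.zstar hs
  have hxo : Odd (orderOf x) := C.ord ▸ C.pp.odd_of_ne_two C.p2
  set L := N ⊔ Subgroup.zpowers x with hL
  have hLo : Odd (Nat.card L) := by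
    have h1 : Nat.card L ∣ Nat.card N * Nat.card (Subgroup.zpowers x) := by
      have := Subgroup.relIndex_sup_left (Subgroup.zpowers x) N
      have h2 : N.relIndex L * Nat.card N = Nat.card L := by
        rw [Subgroup.relIndex, ← Nat.card_congr (Subgroup.subgroupOfEquivOfLe
          (show N ≤ L from le_sup_left)).toEquiv, Subgroup.index_mul_card]
      rw [← h2, mul_comm, hL, this]
      exact mul_dvd_mul_left _ (Subgroup.index_dvd_card _)
    rw [Nat.card_zpowers] at h1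
    exact Odd.of_dvd_nat (hodd.mul hxo) h1
  have hLt : L ≠ ⊤ := fun h => by
    have h1 := Subgroup.orderOf_dvd_natCard L (h ▸ Subgroup.mem_top s)
    rw [hs.1] at h1
    exact (Nat.not_even_iff_odd.2 hLo) (even_iff_two_dvd.2 h1)
  have hxL : x ∈ L := (le_sup_right : _ ≤ L) (Subgroup.mem_zpowers x)
  have hR := C.loc L x hLt hxL (IsConj.refl x)
  -- `[N, x]` is a normal `q`-subgroup of `N`
  have hR1 : IsPGroup q (cm N x) :=
    hR.to_le (Subgroup.commutator_mono le_sup_left le_rfl)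
  have hle : cm N x ≤ N := Subgroup.commutator_le_left _ _
  have hn1 : ((cm N x).subgroupOf N).Normal :=
    (Subgroup.normal_subgroupOf_iff_le_normalizer hle).2 (le_nor_cm N x)
  have h2 : (cm N x).subgroupOf N ≤ pCore q N :=
    le_sSup ⟨hn1, hR1.of_equiv (Subgroup.subgroupOfEquivOfLe hle).symm⟩
  have h3 : (pCore q N).map N.subtype = ⊥ := by
    have hq : IsPGroup q ((pCore q N).map N.subtype) := H22.isPGroup_pCore.map _
    refine C.opp _ inferInstance ?_
    obtain ⟨k, hk⟩ := hq.exists_card_eq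
    rw [hk]
    exact ((Nat.coprime_primes C.qp C.pp).2 C.pq.symm).pow_left k
  have h4 : cm N x = ⊥ := by
    rw [eq_bot_iff, ← h3, ← Subgroup.map_subgroupOf_eq_of_le hle]
    exact Subgroup.map_mono h2
  have h5 := fun n hn a => ev_central' C hN (cm_eq_bot_iff.1 h4) (n := n) hn a
  have hss : s * s = 1 := by rw [← pow_two, ← hs.1, pow_orderOf_eq_one]
  have hsi : s⁻¹ = s := inv_eq_of_mul_eq_one_right hss
  refine ev_inv_not_central C hs.1 fun g => ?_
  have h6 : Commute s (g * s * g⁻¹) := by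
    have h7 := (h5 _ (hc g) s).eq
    rw [hsi] at h7
    have h8 : g * s * g⁻¹ = s * (s * g * s * g⁻¹) := by
      rw [← mul_assoc, ← mul_assoc, ← mul_assoc, hss, one_mul]
    show s * (g * s * g⁻¹) = g * s * g⁻¹ * s
    rw [h8, mul_assoc s (s * g * s * g⁻¹) s, h7]
  have h9 := hs.2 g h6
  rw [mul_inv_eq_iff_eq_mul] at h9
  exact h9.symm

/-- inverted times centralised -/
theorem inv_dec {R : Subgroup G} (hR : Odd (Nat.card R)) {s : G} (hs : s * s = 1) (hn : s ∈ nor R)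
    {r : G} (hr : r ∈ R) : ∃ u ∈ R, ∃ c ∈ R, s * u * s⁻¹ = u⁻¹ ∧ Commute c s ∧ r = u * c := by
  have hsi : s⁻¹ = s := inv_eq_of_mul_eq_one_right hs
  set n := r * (s * r * s⁻¹)⁻¹ with hn0
  have hnR : n ∈ R := mul_mem hr (inv_mem ((mem_nor.1 hn r).1 hr))
  have hinv : s * n * s⁻¹ = n⁻¹ := by
    rw [hn0, hsi]
    calc s * (r * (s * r * s)⁻¹) * s = s * r * s⁻¹ * r⁻¹ * (s⁻¹ * s) := by group
      _ = (r * (s * r * s)⁻¹)⁻¹ := by rw [inv_mul_cancel, hsi]; group
  obtain ⟨k, hk⟩ := hR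
  have hpow : n ^ (2 * k + 1) = 1 := by
    rw [← hk]
    exact congrArg Subtype.val (pow_card_eq_one' (G := R) (x := ⟨n, hnR⟩))
  have huu : n ^ (k + 1) * n ^ (k + 1) = n := by
    rw [← pow_add, show k + 1 + (k + 1) = 2 * k + 1 + 1 by ring, pow_succ, hpow, one_mul]
  have hu : s * n ^ (k + 1) * s⁻¹ = (n ^ (k + 1))⁻¹ := by
    rw [← conj_pow, hinv, inv_pow]
  refine ⟨n ^ (k + 1), pow_mem hnR _, (n ^ (k + 1))⁻¹ * r, mul_mem (inv_mem (pow_mem hnR _)) hr,
    hu, ?_, by group⟩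
  set u := n ^ (k + 1)
  have h1 : s * r * s⁻¹ = (u * u)⁻¹ * r := by rw [huu, hn0]; group
  have h2 : s * u⁻¹ * s⁻¹ = u := by rw [← conj_inv, hu, inv_inv]
  have h3 : s * (u⁻¹ * r) * s⁻¹ = u⁻¹ * r := by
    calc s * (u⁻¹ * r) * s⁻¹ = (s * u⁻¹ * s⁻¹) * (s * r * s⁻¹) := by group
      _ = u⁻¹ * r := by rw [h1, h2]; group
  rw [mul_inv_eq_iff_eq_mul] at h3
  exact h3.symm

end Cfsg.Agent.DTO
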