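import Cfsg.Agent.DTO.Ev

set_option autoImplicit false

namespace Cfsg.Agent.DTO

open Cfsg Cfsg.Agent.DT

variable {G : Type*} [Group G] [Finite G] {p q : ℕ} {x : G}

/-- a `q`-subgroup normalised by `a` and the involution `s`, with `a, s` commuting modulo it -/
theorem prod_R (C : Ctx p q x) {s : G} (hs : orderOf s = 2) {a : G} (ha : IsConj x a) :
    ∃ R : Subgroup G, IsPGroup q R ∧ a ∈ nor R ∧ s ∈ nor R ∧ a⁻¹ * (s * a * s⁻¹) ∈ R := by
  have hss : s * s = 1 := by rw [← pow_two, ← hs, pow_orderOf_eq_one]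
  have hsi : s⁻¹ = s := inv_eq_of_mul_eq_one_right hss
  obtain ⟨R, hR, haR, hm⟩ := h1_conj C.h1 ha (s * a * s⁻¹) (isConj_iff.2 ⟨s, rfl⟩)
  have hRn : R ≤ nor R := Subgroup.le_normalizer
  have hb : s * a * s⁻¹ ∈ nor R := by
    have := mul_mem haR (hRn hm)
    rwa [mul_inv_cancel_left] at this
  have hmem : ∀ g, g ∈ cj s R ↔ s * g * s⁻¹ ∈ R := fun g => by rw [mem_cj, hsi]
  have ha2 : a ∈ nor (cj s R) := by
    rw [nor_cj, mem_cj, hsi]
    rwa [hsi] at hb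
  refine ⟨R ⊓ cj s R, hR.to_le inf_le_left, nor_inf_le_nor_inf _ _ ⟨haR, ha2⟩, ?_, hm, ?_⟩
  · refine mem_nor.2 fun g => ?_
    rw [Subgroup.mem_inf, Subgroup.mem_inf, hmem, hmem, and_comm]
    have : s * (s * g * s⁻¹) * s⁻¹ = g := by
      rw [hsi, ← mul_assoc, ← mul_assoc, hss, one_mul, mul_assoc, hss, mul_one]
    rw [this]
  · refine (hmem _).2 ?_
    have : s * (a⁻¹ * (s * a * s⁻¹)) * s⁻¹ = (a⁻¹ * (s * a * s⁻¹))⁻¹ := by
      calc s * (a⁻¹ * (s * a * s⁻¹)) * s⁻¹ = s * a⁻¹ * s * a * (s * s)⁻¹ := by group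
        _ = (a⁻¹ * (s * a * s⁻¹))⁻¹ := by rw [hss, hsi]; simp [hsi, mul_assoc]
    rw [this]
    exact inv_mem hm

/-- powers of `g * r` modulo `R` -/
theorem prod_pow {R : Subgroup G} {g r : G} (hg : g ∈ nor R) (hr : r ∈ R) (n : ℕ) :
    (g ^ n)⁻¹ * (g * r) ^ n ∈ R := by
  induction n with
  | zero => simp
  | succ n ih =>
    have h1 : (g ^ (n + 1))⁻¹ * (g * r) ^ (n + 1) =
        g⁻¹ * ((g ^ n)⁻¹ * (g * r) ^ n) * g⁻¹⁻¹ * r := by rw [pow_succ, pow_succ]; group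
    rw [h1]
    exact mul_mem ((mem_nor.1 (inv_mem hg) _).1 ih) hr

/-- commuting `s`, `y` normalising `R`: the element `s * y * r` splits into its three parts -/
theorem prod_split (C : Ctx p q x) (hq : q ≠ 2) {s y r : G} {R : Subgroup G} (hss : s * s = 1)
    (hy : y ^ p ∈ R) (hc : Commute y s) (hR : IsPGroup q R) (hyR : y ∈ nor R) (hsR : s ∈ nor R)
    (hr : r ∈ R) : ∃ s' y' c : G, s' * s' = 1 ∧ s⁻¹ * s' ∈ R ∧ y' ^ p = 1 ∧ y⁻¹ * y' ∈ R ∧ c ∈ R ∧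
      Commute y' s' ∧ Commute c y' ∧ Commute c s' ∧ s * y * r = s' * (y' * c) := by
  have : Fact q.Prime := ⟨C.qp⟩
  set h := s * y * r with hh
  have hg : s * y ∈ nor R := mul_mem hsR hyR
  have hs2 : s ^ 2 = 1 := by rw [pow_two, hss]
  have hpow : ∀ n, (s * y) ^ n = s ^ n * y ^ n := fun n => hc.symm.mul_pow n
  have h2p : h ^ (2 * p) ∈ R := by
    have := prod_pow hg hr (2 * p)
    rw [hpow, pow_mul s, hs2, one_pow, one_mul] at this
    have h1 : y ^ (2 * p) ∈ R := by rw [mul_comm, pow_mul]; exact pow_mem hy _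
    simpa using mul_mem h1 this
  obtain ⟨k, hk⟩ := hR ⟨_, h2p⟩
  have hk' : h ^ (2 * p * q ^ k) = 1 := by
    rw [pow_mul]; exact congrArg Subtype.val hk
  have po : Odd p := C.pp.odd_of_ne_two C.p2
  have qo : Odd (q ^ k) := (C.qp.odd_of_ne_two hq).pow
  have cpq : Nat.Coprime p (q ^ k) := ((Nat.coprime_primes C.pp C.qp).2 C.pq).pow_right k
  -- exponents
  have c1 : Nat.Coprime (2 * q ^ k) p :=
    Nat.Coprime.mul_left ((Nat.coprime_primes Nat.prime_two C.pp).2 C.p2.symm) cpq.symm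
  obtain ⟨m, hm⟩ := Nat.exists_mul_mod_eq_one_of_coprime c1 C.pp.one_lt
  have hm := hm.2
  set e1 := p * q ^ k with he1
  set e2 := 2 * q ^ k * m with he2
  have o1 : Odd e1 := po.mul qo
  have s1 : s ^ e1 = s := by
    obtain ⟨j, hj⟩ := o1
    rw [hj, pow_succ, pow_mul, hs2, one_pow, one_mul]
  have y1 : y ^ e1 ∈ R := by rw [he1, pow_mul]; exact pow_mem hy _
  have s2 : s ^ e2 = 1 := by rw [he2, mul_assoc, pow_mul, hs2, one_pow]
  have y2 : y ^ e2 = y * (y ^ p) ^ (e2 / p) := by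
    conv_lhs => rw [← Nat.mod_add_div e2 p, pow_add, pow_mul, hm, pow_one]
  have m1 : s⁻¹ * h ^ e1 ∈ R := by
    have := prod_pow hg hr e1
    rw [hpow, s1] at this
    simpa [mul_assoc, hh] using mul_mem y1 this
  have m2 : y⁻¹ * h ^ e2 ∈ R := by
    have := prod_pow hg hr e2
    rw [hpow, s2, y2, one_mul] at this
    simpa [mul_assoc, hh] using mul_mem (pow_mem hy (e2 / p)) this
  have cc : ∀ i j, Commute (h ^ i) (h ^ j) := fun i j => Commute.pow_pow_self h i j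
  have c3 : ∀ j, Commute ((h ^ e2)⁻¹ * (h ^ e1)⁻¹ * h) (h ^ j) := fun j =>
    ((cc _ _).inv_left.mul_left (cc _ _).inv_left).mul_left (Commute.self_pow h j)
  refine ⟨h ^ e1, h ^ e2, (h ^ e2)⁻¹ * (h ^ e1)⁻¹ * h, ?_, m1, ?_, m2, ?_, cc _ _, c3 _, c3 _,
    by group⟩
  · rw [← pow_add, ← hk', he1]; congr 1; ring
  · rw [← pow_mul, show e2 * p = 2 * p * q ^ k * m by rw [he2]; ring, pow_mul, hk', one_pow]
  · have h3 : ∀ A B : G, B⁻¹ * A⁻¹ * (s * y * r) =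
        (y⁻¹ * B)⁻¹ * (y⁻¹ * (s⁻¹ * A)⁻¹ * y⁻¹⁻¹) * r := fun A B => by group
    have h4 := h3 (h ^ e1) (h ^ e2)
    rw [← hh] at h4
    rw [h4]
    exact mul_mem (mul_mem (inv_mem m2) ((mem_nor.1 (inv_mem hyR) _).1 (inv_mem m1))) hr

theorem prod_cm {R : Subgroup G} {t : G} (ht : t ∈ R) (a : G) : cm R (t⁻¹ * a * t) = cm R a := by
  have h := cj_cm t⁻¹ R a
  rw [inv_inv, cj_eq_self_iff.2 (le_nor_cm R a (inv_mem ht)),
    cj_eq_self_iff.2 (Subgroup.le_normalizer (inv_mem ht))] at h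
  exact h.symm

theorem prod (C : Ctx p q x) (hq : q ≠ 2) {s : G} (hs : orderOf s = 2) {a : G} (ha : IsConj x a) :
    ∃ (y c : G) (W : Subgroup G), IsConj x y ∧ Commute y s ∧ IsPGroup q W ∧ y ∈ nor W ∧
      c ∈ cm W y ∧ Commute c y ∧ Commute c s ∧ IsConj (a * s) (s * (y * c)) := by
  have : Fact q.Prime := ⟨C.qp⟩
  have hss : s * s = 1 := by rw [← pow_two, ← hs, pow_orderOf_eq_one]
  have hsi : s⁻¹ = s := inv_eq_of_mul_eq_one_right hss
  have hap : a ^ p = 1 := by rw [← C.ord_pt ha, pow_orderOf_eq_one]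
  obtain ⟨R, hR, haR, hsR, hm⟩ := prod_R C hs ha
  obtain ⟨t, ht, hte⟩ := cop_conj C.pp C.qp C.pq hR hap (by rw [conj_pow, hap]; simp) haR hm
  have htR := cm_le haR ht
  set W := cm R a with hW
  have hWq : IsPGroup q W := hR.to_le (cm_le haR)
  have haW : a ∈ nor W := mem_nor_cm R a
  have hsW : s ∈ nor W := by
    rw [← cj_eq_self_iff, hW, cj_cm, cj_eq_self_iff.2 hsR, hte, prod_cm htR]
  have hWW : cm W a = W := cop_cm_cm C.pp C.qp C.pq hR hap haR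
  have hodd : ∀ w ∈ W, Odd (orderOf w) := fun w hw => by
    obtain ⟨k, hk⟩ := IsPGroup.iff_orderOf.1 hWq ⟨w, hw⟩
    rw [← Subgroup.orderOf_coe] at hk
    exact hk ▸ (C.qp.odd_of_ne_two hq).pow
  -- `n = a⁻¹ s a s` lies in `W`
  have hn : a⁻¹ * s * a * s ∈ W := by
    have h1 : a⁻¹ * (s * a * s⁻¹) ∈ W := by
      rw [hte, ← mul_assoc, ← mul_assoc]; exact (comm_mem_cm a htR).2.2.1
    rwa [hsi, ← mul_assoc, ← mul_assoc] at h1
  set n := a⁻¹ * s * a * s with hn0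
  have hni : s * n * s⁻¹ = n⁻¹ := by
    rw [hn0, hsi]
    calc s * (a⁻¹ * s * a * s) * s = s * a⁻¹ * s * a * (s * s) := by group
      _ = (a⁻¹ * s * a * s)⁻¹ := by rw [hss]; simp [hsi, mul_assoc]
  obtain ⟨k, hk⟩ := hodd n hn
  have huu : n ^ (k + 1) * n ^ (k + 1) = n := by
    rw [← pow_add, show k + 1 + (k + 1) = 2 * k + 1 + 1 by ring, pow_succ, ← hk,
      pow_orderOf_eq_one, one_mul]
  have hu : s * n ^ (k + 1) * s⁻¹ = (n ^ (k + 1))⁻¹ := by rw [← conj_pow, hni, inv_pow]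
  have huW : n ^ (k + 1) ∈ W := pow_mem hn _
  set u := n ^ (k + 1)
  have hc : Commute (a * u) s := by
    have h1 : s * a * s⁻¹ = a * (u * u) := by rw [huu, hn0, hsi]; group
    have h2 : s * (a * u) * s⁻¹ = a * u := by
      calc s * (a * u) * s⁻¹ = (s * a * s⁻¹) * (s * u * s⁻¹) := by group
        _ = a * u := by rw [h1, hu]; group
    rw [mul_inv_eq_iff_eq_mul] at h2
    exact h2.symm
  have hyp : (a * u) ^ p ∈ W := by simpa [hap] using prod_pow haW huW p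
  obtain ⟨s', y', c, h1, h2, h3, h4, h5, h6, h7, h8, h9⟩ := prod_split C hq hss hyp hc hWq
    (mul_mem haW (Subgroup.le_normalizer huW)) hsW (inv_mem huW)
  have h4' : a⁻¹ * y' ∈ W := by simpa [mul_assoc] using mul_mem huW h4
  obtain ⟨t', ht', rfl⟩ := cop_conj C.pp C.qp C.pq hWq hap h3 haW h4'
  rw [hWW] at ht'
  obtain ⟨g, -, hg⟩ := dihedral_odd h1 hss (by
    have := hodd _ (inv_mem h2)
    rwa [mul_inv_rev, inv_inv, inv_eq_of_mul_eq_one_right h1] at this)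
  have hy' : IsConj x (t'⁻¹ * a * t') := ha.trans (isConj_iff.2 ⟨t'⁻¹, by rw [inv_inv]⟩)
  have cmap : ∀ {v w : G}, Commute v w → Commute (g * v * g⁻¹) (g * w * g⁻¹) := fun h => by
    simpa using h.map (MulAut.conj g)
  refine ⟨g * (t'⁻¹ * a * t') * g⁻¹, g * c * g⁻¹, cj g W, hy'.trans (isConj_iff.2 ⟨g, rfl⟩),
    hg ▸ cmap h6, hWq.map _, ?_, ?_, cmap h7, hg ▸ cmap h8, ?_⟩
  · rw [nor_cj, mem_cj]
    have := mul_mem (mul_mem (Subgroup.le_normalizer (inv_mem ht')) haW)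
      (Subgroup.le_normalizer ht')
    simpa [mul_assoc] using this
  · rw [← cj_cm, prod_cm ht', hWW, mem_cj]
    simpa [mul_assoc] using h5
  · have e1 : s * a = s' * (t'⁻¹ * a * t' * c) := by rw [← h9]; group
    refine isConj_iff.2 ⟨g * s, ?_⟩
    calc g * s * (a * s) * (g * s)⁻¹ = g * (s * a) * g⁻¹ := by group
      _ = (g * s' * g⁻¹) * (g * (t'⁻¹ * a * t') * g⁻¹ * (g * c * g⁻¹)) := by rw [e1]; group
      _ = _ := by rw [← hg]

end Cfsg.Agent.DTO
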