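import Cfsg.Agent.DT.ZB

set_option autoImplicit false
set_option linter.unusedSectionVars false

namespace Cfsg.Agent.DTO

open Cfsg.Agent.DT

variable {G : Type*} [Group G] [Finite G] {p q : ℕ} {x : G}

theorem cm_mono {R S : Subgroup G} (h : R ≤ S) (y : G) : cm R y ≤ cm S y :=
  Subgroup.commutator_mono h le_rfl

theorem cm_le_self {L : Subgroup G} {y : G} (hy : y ∈ L) : cm L y ≤ L :=
  cm_le (Subgroup.le_normalizer hy)

theorem odd_ord (hq : q.Prime) (h2 : q ≠ 2) {R : Subgroup G} (hR : IsPGroup q R) {r : G}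
    (hr : r ∈ R) : Odd (orderOf r) := by
  obtain ⟨k, hk⟩ := hR ⟨r, hr⟩
  have h1 : r ^ q ^ k = 1 := congrArg Subtype.val hk
  exact Odd.of_dvd_nat ((hq.odd_of_ne_two h2).pow) (orderOf_dvd_of_pow_eq_one h1)

theorem sqrt_odd {w : G} (hw : Odd (orderOf w)) : ∃ n : ℕ, w ^ n * w ^ n = w := by
  obtain ⟨j, hj⟩ := hw
  refine ⟨j + 1, ?_⟩
  rw [← pow_add, show j + 1 + (j + 1) = orderOf w + 1 by omega, pow_succ, pow_orderOf_eq_one,
    one_mul]

theorem eq_one_of_odd {w : G} (hw : Odd (orderOf w)) (h : w * w = 1) : w = 1 := by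
  obtain ⟨n, hn⟩ := sqrt_odd hw
  rw [← hn, ← Commute.mul_pow (Commute.refl w), h, one_pow]

theorem conj_mem {g a : G} {R : Subgroup G} (hg : g ∈ nor R) (ha : a ∈ R) : g * a * g⁻¹ ∈ R :=
  (mem_nor.1 hg a).1 ha

theorem inv_self {s : G} (hs : s * s = 1) : s⁻¹ = s := inv_eq_of_mul_eq_one_right hs

/-- an odd order group acted on by an involution: inverted times centralised. -/
theorem dec (hq : q.Prime) (h2 : q ≠ 2) {R : Subgroup G} (hR : IsPGroup q R) {s : G}
    (hs : s * s = 1) (hn : s ∈ nor R) {r : G} (hr : r ∈ R) :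
    ∃ u ∈ R, ∃ c ∈ R, s * u * s⁻¹ = u⁻¹ ∧ Commute c s ∧ r = u * c := by
  have hw : r * (s * r * s⁻¹)⁻¹ ∈ R := mul_mem hr (inv_mem (conj_mem hn hr))
  obtain ⟨n, hn'⟩ := sqrt_odd (odd_ord hq h2 hR hw)
  have hi := inv_self hs
  have e1 : s * (r * (s * r * s⁻¹)⁻¹) * s⁻¹ = (r * (s * r * s⁻¹)⁻¹)⁻¹ := by
    calc _ = s * r * (s * r⁻¹ * s⁻¹) * s⁻¹ := by group
      _ = s * r * (s⁻¹ * r⁻¹ * s) * s⁻¹ := by rw [hi]
      _ = _ := by group
  set w := r * (s * r * s⁻¹)⁻¹ with hwd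
  have e2 : s * w ^ n * s⁻¹ = (w ^ n)⁻¹ := by rw [← conj_pow, e1, inv_pow]
  refine ⟨w ^ n, pow_mem hw n, (w ^ n)⁻¹ * r, mul_mem (inv_mem (pow_mem hw n)) hr, e2, ?_,
    by group⟩
  have e3 : s * r * s⁻¹ = w⁻¹ * r := by rw [hwd]; group
  have e4 : s * ((w ^ n)⁻¹ * r) * s⁻¹ = (w ^ n)⁻¹ * r := by
    calc _ = (s * w ^ n * s⁻¹)⁻¹ * (s * r * s⁻¹) := by group
      _ = w ^ n * (w ^ n * w ^ n)⁻¹ * r := by rw [e2, e3, hn']; group
      _ = _ := by group
  exact (mul_inv_eq_iff_eq_mul.1 e4).symm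

theorem pair_ne_top (C : Ctx p q x) {a w : G} (ha : IsConj x a) (hw : IsConj x w) :
    Subgroup.closure ({a, w} : Set G) ≠ ⊤ := by
  obtain ⟨Q, hQ, h1, h2⟩ : ∃ Q, Blk q x Q ∧ Pt x Q a ∧ Pt x Q w := by
    by_cases h : a = w
    · obtain ⟨Q, hQ, h1⟩ := C.exists_blk ha
      exact ⟨Q, hQ, h1, h ▸ h1⟩
    · exact C.two_pts ha hw h
  intro h
  refine C.blk_nor_ne_top hQ (top_le_iff.1 (h ▸ (Subgroup.closure_le _).2 ?_))
  rintro _ (rfl | rfl)
  exacts [h1.2, h2.2]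

theorem l_mem (a w : G) : a ∈ Subgroup.closure ({a, w} : Set G) :=
  Subgroup.subset_closure (by simp)

theorem r_mem (a w : G) : w ∈ Subgroup.closure ({a, w} : Set G) :=
  Subgroup.subset_closure (by simp)

theorem pair_le {a w : G} {H : Subgroup G} (ha : a ∈ H) (hw : w ∈ H) :
    Subgroup.closure ({a, w} : Set G) ≤ H :=
  (Subgroup.closure_le _).2 (by rintro _ (rfl | rfl); exacts [ha, hw])

theorem pair_k (C : Ctx p q x) {a w : G} (ha : IsConj x a) (hw : IsConj x w) :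
    ∃ k ∈ cm (Subgroup.closure ({a, w} : Set G)) a, w = k⁻¹ * a * k :=
  C.loc_pts (pair_ne_top C ha hw) ha (l_mem a w) hw (r_mem a w)

theorem pair_k_mem (C : Ctx p q x) {Q : Subgroup G} (hQ : Blk q x Q) {a w k : G} (ha : Pt x Q a)
    (hw : w ∈ nor Q) (hk : k ∈ cm (Subgroup.closure ({a, w} : Set G)) a) : k ∈ Q :=
  C.blk_cm_nor hQ ha ▸ cm_mono (pair_le ha.2 hw) a hk

theorem cm_conj {L : Subgroup G} {w t : G} (ht : t ∈ L) : cm L (t * w * t⁻¹) = cm L w := by
  have e1 : cj t L = L := cj_eq_self_iff.2 (Subgroup.le_normalizer ht)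
  have e2 := cj_cm t L w
  rw [e1, cj_eq_self_iff.2 (le_nor_cm L w ht)] at e2
  exact e2.symm

theorem isConj_conj {y : G} (hy : IsConj x y) (g : G) : IsConj x (g * y * g⁻¹) :=
  hy.trans (isConj_iff.2 ⟨g, rfl⟩)

/-- the midpoint lemma: `s w s⁻¹` is the reflection of `w` in a point fixed by `s`. -/
theorem mid (C : Ctx p q x) (hq : q ≠ 2) {s : G} (hs : s * s = 1) {w : G} (hw : IsConj x w) :
    ∃ a, IsConj x a ∧ Commute a s ∧ ∀ k ∈ cm (Subgroup.closure ({a, w} : Set G)) a,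
      w = k⁻¹ * a * k → s * w * s⁻¹ = k * a * k⁻¹ := by
  have hi := inv_self hs
  have hw' := isConj_conj hw s
  set L := Subgroup.closure ({w, s * w * s⁻¹} : Set G) with hLd
  have hL : L ≠ ⊤ := pair_ne_top C hw hw'
  have hwL : w ∈ L := l_mem _ _
  have hwL' : s * w * s⁻¹ ∈ L := r_mem _ _
  have hR : IsPGroup q (cm L w) := C.loc L w hL hwL hw
  obtain ⟨k, hk, ek⟩ := pair_k C hw hw'
  have hle : cm L w ≤ L := cm_le_self hwL
  have hsL0 : ∀ l ∈ L, s * l * s⁻¹ ∈ L := by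
    intro l hl
    have : L ≤ L.comap (MulAut.conj s).toMonoidHom := by
      refine pair_le hwL' ?_
      show s * (s * w * s⁻¹) * s⁻¹ ∈ L
      have : s * (s * w * s⁻¹) * s⁻¹ = w := by
        calc _ = (s * s) * w * (s * s)⁻¹ := by group
          _ = w := by rw [hs]; group
      rw [this]; exact hwL
    exact this hl
  have hsL : s ∈ nor L := mem_nor.2 fun l => ⟨hsL0 l, fun h => by
    have h1 := hsL0 _ h
    have : s * (s * l * s⁻¹) * s⁻¹ = l := by
      calc _ = (s * s) * l * (s * s)⁻¹ := by group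
        _ = l := by rw [hs]; group
    rwa [this] at h1⟩
  have hsR : s ∈ nor (cm L w) := by
    rw [← cj_eq_self_iff, cj_cm, cj_eq_self_iff.2 hsL, ek]
    have := cm_conj (w := w) (inv_mem (hle hk))
    rwa [inv_inv] at this
  have he : Commute (k * s) w := by
    show k * s * w = w * (k * s)
    calc k * s * w = k * (s * w * s⁻¹) * s := by group
      _ = _ := by rw [ek]; group
  have he2 : k * s * (k * s) ∈ cm L w := by
    have : k * s * (k * s) = k * (s * k * s⁻¹) := by rw [hi]; group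
    rw [this]; exact mul_mem hk (conj_mem hsR hk)
  obtain ⟨m, hm⟩ := odd_ord C.qp hq hR he2
  set s' := (k * s * (k * s)) ^ m * (k * s) with hs'd
  have hs' : s' * s' = 1 := by
    have : s' * s' = (k * s * (k * s)) ^ (2 * m + 1) := by
      rw [hs'd, ← pow_two (k * s), ← pow_mul, ← pow_mul, ← pow_succ, ← pow_add]
      congr 1; omega
    rw [this, ← hm, pow_orderOf_eq_one]
  have hs'w : Commute s' w := ((he.mul_left he).pow_left m).mul_left he
  have hk' : s' * s ∈ cm L w := by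
    have : s' * s = (k * s * (k * s)) ^ m * k := by
      rw [hs'd, mul_assoc, mul_assoc k s s, hs, mul_one]
    rw [this]; exact mul_mem (pow_mem he2 m) hk
  obtain ⟨n, hn⟩ := sqrt_odd (odd_ord C.qp hq hR hk')
  set g := (s' * s) ^ n with hgd
  have hg : g ∈ cm L w := pow_mem hk' n
  have hsg : s * g * s⁻¹ = g⁻¹ := by
    rw [hgd, ← conj_pow, ← inv_pow]
    congr 1
    rw [mul_inv_rev, inv_self hs']
    calc _ = s * s' := by group
      _ = _ := by rw [hi]
  have hgs : g * s * g⁻¹ = s' := by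
    calc g * s * g⁻¹ = g * (s * g * s⁻¹)⁻¹ * s := by group
      _ = s' * (s * s) := by rw [hsg, inv_inv, hn]; group
      _ = s' := by rw [hs, mul_one]
  have ha : IsConj x (g⁻¹ * w * g⁻¹⁻¹) := isConj_conj hw _
  have haL : g⁻¹ * w * g⁻¹⁻¹ ∈ L := mul_mem (mul_mem (inv_mem (hle hg)) hwL) (inv_mem (inv_mem (hle hg)))
  have hRa : cm L (g⁻¹ * w * g⁻¹⁻¹) = cm L w := cm_conj (inv_mem (hle hg))
  set a := g⁻¹ * w * g⁻¹⁻¹ with had
  have hwa : w = g * a * g⁻¹ := by rw [had]; group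
  have has : Commute a s := by
    show a * s = s * a
    calc a * s = g⁻¹ * (w * (g * s * g⁻¹)) * g := by rw [had]; group
      _ = g⁻¹ * ((g * s * g⁻¹) * w) * g := by rw [hgs, hs'w.eq]
      _ = _ := by rw [had]; group
  refine ⟨a, ha, has, fun k0 hk0 e0 => ?_⟩
  have hk0' : k0 ∈ cm L a := cm_mono (pair_le haL hwL) a hk0
  have hg' : g ∈ cm L a := hRa ▸ hg
  have hcc := C.loc_cm_cm hL ha haL
  have hca : Commute (k0 * g) a := by
    show k0 * g * a = a * (k0 * g)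
    calc k0 * g * a = k0 * (g * a * g⁻¹) * g := by group
      _ = _ := by rw [← hwa, e0]; group
  have hck : Commute (k0 * g) k0 :=
    (h2_conj C.h2 ha (cm L a) (C.loc L a hL haL ha) (mem_nor_cm L a) (k0 * g)
      (hcc.symm ▸ mul_mem hk0' hg')).2.2 hca k0 (hcc.symm ▸ hk0')
  have e5 : s * w * s⁻¹ = g⁻¹ * a * g := by
    calc s * w * s⁻¹ = (s * g * s⁻¹) * (s * a * s⁻¹) * (s * g * s⁻¹)⁻¹ := by rw [hwa]; group
      _ = _ := by rw [hsg, ← has.eq]; group
  rw [e5]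
  have h6 : Commute (k0 * g) (k0 * a * k0⁻¹) := (hck.mul_right hca).mul_right hck.inv_right
  calc g⁻¹ * a * g = (k0 * g)⁻¹ * ((k0 * a * k0⁻¹) * (k0 * g)) := by group
    _ = _ := by rw [← h6.eq]; group

/-- a block containing all points fixed by the involution `s` is `s`-invariant. -/
theorem inv_blk (C : Ctx p q x) (hq : q ≠ 2) {s : G} (hs : s * s = 1) {Q : Subgroup G}
    (hQ : Blk q x Q) (h : ∀ a, IsConj x a → Commute a s → a ∈ nor Q) : s ∈ nor Q := by
  rw [← cj_eq_self_iff]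
  refine C.blk_eq_of_pts (hQ.cj s) hQ fun y hy => ?_
  have hw : s⁻¹ * y * s ∈ nor Q := by
    have := hy.2
    rwa [nor_cj, mem_cj] at this
  have hwc : IsConj x (s⁻¹ * y * s) := by simpa using isConj_conj hy.1 s⁻¹
  obtain ⟨a, ha, has, hk⟩ := mid C hq hs hwc
  obtain ⟨k, hk1, hk2⟩ := pair_k C ha hwc
  have e := hk k hk1 hk2
  have hkN : k ∈ nor Q := pair_le (h a ha has) hw (cm_le_self (l_mem _ _) hk1)
  have : y = k * a * k⁻¹ := by rw [← e]; group
  rw [this]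
  exact mul_mem (mul_mem hkN (h a ha has)) (inv_mem hkN)

/-- an involution fixing at most one point is isolated. -/
theorem single (C : Ctx p q x) (hq : q ≠ 2) {s : G} (hs : s * s = 1)
    (h : ∀ a b, IsConj x a → Commute a s → IsConj x b → Commute b s → a = b) (g : G)
    (hc : Commute s (g * s * g⁻¹)) : g * s * g⁻¹ = s := by
  set s' := g * s * g⁻¹ with hs'd
  have hs' : s' * s' = 1 := by
    calc _ = g * (s * s) * g⁻¹ := by rw [hs'd]; group
      _ = 1 := by rw [hs]; group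
  have h' : ∀ a b, IsConj x a → Commute a s → IsConj x b → Commute b s' → a = b := by
    intro a b ha has hb hbs
    have h1 : s' * a * s'⁻¹ = a := h _ _ (isConj_conj ha s')
      ((hc.symm.mul_left has).mul_left hc.symm.inv_left) ha has
    have h2 : Commute a s' := (mul_inv_eq_iff_eq_mul.1 h1).symm
    have key : ∀ c, Commute c s' → Commute (g⁻¹ * c * g⁻¹⁻¹) s := fun c hcs => by
      show _ * _ = _ * _
      calc g⁻¹ * c * g⁻¹⁻¹ * s = g⁻¹ * (c * s') * g := by rw [hs'd]; group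
        _ = _ := by rw [hcs.eq, hs'd]; group
    have := h _ _ (isConj_conj ha g⁻¹) (key a h2) (isConj_conj hb g⁻¹) (key b hbs)
    simpa using this
  by_contra hne
  have h1 : s⁻¹ * s' ≠ 1 := fun e => hne (inv_mul_eq_one.1 e).symm
  have h2 : s⁻¹ * s' * (s⁻¹ * s') = 1 := by
    rw [inv_self hs]
    calc _ = s * (s' * s) * s' := by group
      _ = (s * s) * (s' * s') := by rw [← hc.eq]; group
      _ = 1 := by rw [hs, hs', one_mul]
  have h3 : orderOf (s⁻¹ * s') = 2 := orderOf_eq_prime (by rw [pow_two, h2]) h1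
  refine C.cen_ne_top h1 (by rw [h3]; exact (Nat.coprime_primes Nat.prime_two C.pp).2 C.p2.symm) ?_
  rw [eq_top_iff, ← C.gen, Subgroup.closure_le]
  intro w hw
  obtain ⟨a, ha, has, hk⟩ := mid C hq hs hw
  obtain ⟨b, hb, hbs, hk'⟩ := mid C hq hs' hw
  obtain rfl := h' a b ha has hb hbs
  obtain ⟨k, hk1, hk2⟩ := pair_k C ha hw
  have e := (hk k hk1 hk2).trans (hk' k hk1 hk2).symm
  refine mem_cen.2 ?_
  show w * (s⁻¹ * s') = s⁻¹ * s' * w
  calc w * (s⁻¹ * s') = s⁻¹ * (s * w * s⁻¹) * s' := by group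
    _ = _ := by rw [e]; group

end Cfsg.Agent.DTO
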