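import Cfsg.Agent.DTO.Mid
import Cfsg.Agent.DT.D0

set_option autoImplicit false
set_option linter.unusedSectionVars false

namespace Cfsg.Agent.DTO

open Cfsg.Agent.DT

variable {G : Type*} [Group G] [Finite G] {p q : ℕ} {x : G}

/-- two distinct blocks over the fixed points of `s`: `s` centralises the centre part. -/
theorem cen_zb (C : Ctx p q x) (hq : q ≠ 2) {s : G} (hs : s * s = 1) {Q2 Q3 : Subgroup G}
    (h2 : Blk q x Q2) (h3 : Blk q x Q3) (hne : Q2 ≠ Q3)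
    (f2 : ∀ a, IsConj x a → Commute a s → a ∈ nor Q2)
    (f3 : ∀ a, IsConj x a → Commute a s → a ∈ nor Q3) {e : G} (he : e ∈ Zb x Q2) :
    Commute e s := by
  obtain ⟨a, ha, has, -⟩ := mid C hq hs (IsConj.refl x)
  have s2 := inv_blk C hq hs h2 f2
  have s3 := inv_blk C hq hs h3 f3
  have hs' : e * s * e⁻¹ * (e * s * e⁻¹) = 1 := by
    calc _ = e * (s * s) * e⁻¹ := by group
      _ = 1 := by rw [hs]; group
  have s3' : e * s * e⁻¹ ∈ nor Q3 := by
    refine inv_blk C hq hs' h3 fun b hb hbs => ?_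
    have h4 : Commute (e⁻¹ * b * e⁻¹⁻¹) s := by
      show _ * _ = _ * _
      calc e⁻¹ * b * e⁻¹⁻¹ * s = e⁻¹ * (b * (e * s * e⁻¹)) * e := by group
        _ = _ := by rw [hbs.eq]; group
    have h5 := isConj_conj hb e⁻¹
    have h6 := (mem_zb.1 he).2 _ ⟨h5, f2 _ h5 h4⟩
    have h7 : b = e⁻¹ * b * e⁻¹⁻¹ := by
      calc b = (e * (e⁻¹ * b * e⁻¹⁻¹)) * e⁻¹ := by group
        _ = _ := by rw [h6.eq]; group
    rw [h7]
    exact f3 _ h5 h4
  have hz : e * (s * e⁻¹ * s⁻¹) ∈ Zb x Q2 :=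
    mul_mem he (conj_mem (nor_le_nor_zb Q2 s2) (inv_mem he))
  have hz3 : e * (s * e⁻¹ * s⁻¹) ∈ nor Q3 := by
    have : e * (s * e⁻¹ * s⁻¹) = e * s * e⁻¹ * s⁻¹ := by group
    rw [this]; exact mul_mem s3' (inv_mem s3)
  have h8 := C.la h2 h3 hne ⟨ha, f2 a ha has⟩ ⟨ha, f3 a ha has⟩ hz hz3
  show e * s = s * e
  calc e * s = e * (s * e⁻¹ * s⁻¹) * (s * e) := by group
    _ = _ := by rw [h8, one_mul]

/-- an involution fixing two points lies over a unique block. -/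
theorem uniq (C : Ctx p q x) (hq : q ≠ 2) {s : G} (hs : s * s = 1) {a a' : G} (ha : IsConj x a)
    (has : Commute a s) (ha' : IsConj x a') (has' : Commute a' s) (haa : a ≠ a')
    {Q2 Q3 : Subgroup G} (h2 : Blk q x Q2) (h3 : Blk q x Q3)
    (f2 : ∀ a, IsConj x a → Commute a s → a ∈ nor Q2)
    (f3 : ∀ a, IsConj x a → Commute a s → a ∈ nor Q3) : Q2 = Q3 := by
  by_contra hne
  have p2 : Pt x Q2 a := ⟨ha, f2 a ha has⟩
  have p3 : Pt x Q3 a := ⟨ha, f3 a ha has⟩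
  have s2 := inv_blk C hq hs h2 f2
  set B := Q2 ⊓ Q3 ⊓ cen s with hB
  have hk : ∀ b, IsConj x b → Commute b s → ∃ k ∈ B, b = k⁻¹ * a * k := by
    intro b hb hbs
    obtain ⟨k, hk1, hk2⟩ := pair_k C ha hb
    exact ⟨k, ⟨⟨pair_k_mem C h2 p2 (f2 b hb hbs) hk1, pair_k_mem C h3 p3 (f3 b hb hbs) hk1⟩,
      pair_le (mem_cen.2 has) (mem_cen.2 hbs) (cm_le_self (l_mem _ _) hk1)⟩, hk2⟩
  have hB1 : B ≠ ⊥ := by
    obtain ⟨k, hk1, hk2⟩ := hk a' ha' has'
    intro h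
    rw [h, Subgroup.mem_bot] at hk1
    exact haa (by rw [hk2, hk1]; group)
  have hBq : IsPGroup q B := h2.pgroup.to_le (inf_le_left.trans inf_le_left)
  have hcom : ∀ b ∈ B, ∀ u ∈ Q2, Commute b u := by
    intro b hb u hu
    obtain ⟨i, hi, c, hc, e1, e2, rfl⟩ := dec C.qp hq h2.pgroup hs s2 hu
    have hbs : Commute b s := mem_cen.1 hb.2
    refine Commute.mul_right ?_ ?_
    · have hz := C.comm_mem_zb h2 hb.1.1 hi
      have hzs := cen_zb C hq hs h2 h3 hne f2 f3 hz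
      have hzi := C.zb_central h2 hz hi
      set z := b * i * b⁻¹ * i⁻¹ with hzd
      have e3 : s * z * s⁻¹ = z⁻¹ := by
        calc s * z * s⁻¹ = (s * b * s⁻¹) * (s * i * s⁻¹) * (s * b * s⁻¹)⁻¹ * (s * i * s⁻¹)⁻¹ := by
              rw [hzd]; group
          _ = i⁻¹ * (z⁻¹ * i) := by rw [e1, ← hbs.eq, hzd]; group
          _ = z⁻¹ := by rw [hzi.inv_left.eq]; group
      have e4 : z * z = 1 := by
        calc z * z = z * (s * z * s⁻¹) := by rw [← hzs.eq]; group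
          _ = 1 := by rw [e3]; group
      have e5 := eq_one_of_odd (odd_ord C.qp hq h2.pgroup (zb_le x Q2 hz)) e4
      show b * i = i * b
      calc b * i = z * (i * b) := by rw [hzd]; group
        _ = _ := by rw [e5, one_mul]
    · have hb' : IsConj x (c⁻¹ * a * c⁻¹⁻¹) := isConj_conj ha _
      obtain ⟨k, hk1, hk2⟩ := hk _ hb' ((e2.inv_left.mul_left has).mul_left e2.inv_left.inv_left)
      have e3 : Commute (c * k⁻¹) a := by
        show c * k⁻¹ * a = a * (c * k⁻¹)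
        calc c * k⁻¹ * a = c * (k⁻¹ * a * k) * k⁻¹ := by group
          _ = _ := by rw [← hk2]; group
      have hz := (C.zb_iff h2 p2).2 ⟨mul_mem hc (inv_mem hk1.1.1), e3⟩
      have e4 := (C.zb_central h2 hz hb.1.1).symm
      have e5 := C.inf_comm h2 h3 hne p2 p3 hb.1 hk1.1
      simpa using e4.mul_right e5
  have cen_nor : ∀ g, (∀ b ∈ B, Commute b g) → g ∈ nor B := fun g hg =>
    Subgroup.centralizer_le_normalizer _ (Subgroup.mem_centralizer_iff.2 fun b hb => (hg b hb).eq)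
  have haB : a ∈ nor B :=
    nor_inf_le_nor_inf _ _ ⟨nor_inf_le_nor_inf _ _ ⟨p2.2, p3.2⟩,
      Subgroup.le_normalizer (mem_cen.2 has)⟩
  obtain ⟨z, hz, hz1⟩ := C.zb_ne_bot h3
  have hd := (C.d0_loc h3 p3 (C.nor_ne_top hBq hB1) haB hz hz1
    (cen_nor z fun b hb => (C.zb_central h3 hz hb.1.2).symm)).2.1
  refine hne (C.blk_eq_of_pts h2 h3 fun y hy => hd y hy.1 ?_)
  obtain ⟨t, ht, rfl⟩ := C.blk_pts h2 p2 hy
  have htB := cen_nor t fun b hb => hcom b hb t ht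
  exact mul_mem (mul_mem (inv_mem htB) haB) htB

end Cfsg.Agent.DTO
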